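set_option autoImplicit false
namespace Cfsg.Agent.Lib.Helper6.TCD.S82D5
noncomputable def NC (i : Nat) : Nat := Nat.land (Nat.shiftRight 0x100003800000000000000030000d000000000000000080002c00000000000000020000900000000000000004000240000000000000001000080000000000000000c0001c0000000000000003000060000000000000001000014000000000000000400003000000000000000000000c00000000000000040000200000000000000008000080000000000000003000010000000000000000400000000000000000000000000 (Nat.mul 86 (Nat.land i 511))) 77371252455336267181195263
end Cfsg.Agent.Lib.Helper6.TCD.S82D5
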