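set_option autoImplicit false
namespace Cfsg.Agent.Lib.Helper6.TCD.S82D5
noncomputable def SC (i : Nat) : Nat := Nat.land (Nat.shiftRight 0x40005c020001500800044020000b0080000000000000040004c020000f0080002402000160080000000000000040003402000070080005802000140080000001000000100001c02000120080004002000000000000001000050080004802000100080003802000000040000004000180080000001000000000000000000090080006002000000040004c020000000000000040000000400000000001500800044020000b0080000001000000000005402000110080000004000000000002802000080080001802000000040000001000170080000004000110080002c020000000000050020000000400034020000000000000000000000400000000000f00800024020001200800000000000e00800000010000500800070020001b0080006802000000000006402 (Nat.mul 30 (Nat.land i 1023))) 1073741823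
end Cfsg.Agent.Lib.Helper6.TCD.S82D5
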