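set_option autoImplicit false
namespace Cfsg.Agent.Lib.Helper6.TCD.S82D5
noncomputable def WDL0 (i : Nat) : Nat := Nat.land (Nat.shiftRight 0x31313106001212040021210400040404004040040003030400303004020202062020200600010104001010040000440200003302000022020000110200000002 (Nat.mul 32 (Nat.land i 15))) 4294967295
noncomputable def WDL1 (i : Nat) : Nat := Nat.land (Nat.shiftRight 0x401000003010000020100000001343434064343430600242404004242042323230632323206001414040041410413131306 (Nat.mul 32 (Nat.land i 15))) 4294967295
noncomputable def WD (i : Nat) : Nat := Bool.rec (WDL0 i) (WDL1 i) (Nat.ble 16 i)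
end Cfsg.Agent.Lib.Helper6.TCD.S82D5
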