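import Cfsg.Agent.Lib.Helper6.TCD.S82D5.SH
import Cfsg.Agent.Lib.Helper6.TCD.S82D5.SC
import Cfsg.Agent.Lib.Helper6.TCD.S82D5.NH
import Cfsg.Agent.Lib.Helper6.TCD.S82D5.NC
import Cfsg.Agent.Lib.Helper6.TCD.S82D5.WD
import Cfsg.Agent.Lib.Helper6.TCD.S82D5.WI
set_option autoImplicit false
namespace Cfsg.Agent.Lib.Helper6.TCD.S82D5
def n : Nat := 16
def ncol : Nat := 5
def nrw : Nat := 25
def nw : Nat := 29
def tmax : Nat := 80
def INV : Nat := 274960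
def N : Nat := 16
end Cfsg.Agent.Lib.Helper6.TCD.S82D5
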