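set_option autoImplicit false
namespace Cfsg.Agent.Lib.Helper6.TCD.S82D5
noncomputable def SH (i : Nat) : Nat := Nat.land (Nat.shiftRight 0x960001c00013c0003c000270000780004d0000f0000980001e0001280003c00023000068000490000e0000900001c00011c0003800022000068000450000e0000800001600010800030000208000680003e0000c00007a000180000ec00024000218000680003c0000c000072000160000e00002c0001f800068000350000900006c000140000cc0002800019000050000310000a000060000100000dc0002c000170000480002b00007000074000180000d00002c00016000040000290000800004e0000c0000a000020000178000500002d000090000420000a0000a8000240001280003800024000070000440000c0000700000c000130000400001e0000400003a0000c00008c0001c000100000380001a000050000320000a000060000140000b800018000120000200002a0000800007c000180000a00002000013000040000360000c0000400000c000070000100000f0000300002c0000a00004400010000050000080000d000030000180000400002c0000800004000008000090000200000e00002000014000000000300000800003000000000040000000000400000000020000080000000000 (Nat.mul 43 (Nat.land i 1023))) 8796093022207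
end Cfsg.Agent.Lib.Helper6.TCD.S82D5
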